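import Mathlib

/-!
# Counting conjugacy classes by the orders of their elements

`nc G P` : the number of conjugacy classes of elements whose order satisfies `P`.

* `nc_eq_card` : `nc G P` is the size of a system of representatives;
* `nc_add` : splitting the condition; `nc_equiv` : isomorphism invariance;
* `nc_part` : `p`-part decomposition.  If the `a i` represent the classes of non-trivial `p`-elements, the number
  of classes with `p ∣ n` and `P n` is the sum of the numbers of classes of `p'`-elements of order `n` of the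
  centralizers `C(a i)` with `P (orderOf (a i) * n)`.
* `nc_prime_mul` : for a Sylow subgroup `S` of prime order `p`, `nc G (· = p) * |N(S)| = (p - 1) * |C(S)|`.
-/

set_option autoImplicit false

namespace Cfsg.Agent.H860.Count

variable {G : Type*} [Group G]

/-- number of conjugacy classes of elements whose order satisfies `P` -/
noncomputable def nc (G : Type*) [Group G] (P : ℕ → Prop) : ℕ :=
  Nat.card {c : ConjClasses G // ∃ g, ConjClasses.mk g = c ∧ P (orderOf g)}

theorem orderOf_conj (c g : G) : orderOf (c * g * c⁻¹) = orderOf g := (MulAut.conj c).orderOf_eq g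

theorem orderOf_eq_of_isConj {a b : G} (h : IsConj a b) : orderOf a = orderOf b := by
  obtain ⟨c, rfl⟩ := isConj_iff.1 h
  exact (orderOf_conj c a).symm

theorem nc_true : nc G (fun _ => True) = Nat.card (ConjClasses G) := by
  refine Nat.card_congr ⟨fun c => c.1, fun c => ⟨c, ?_⟩, fun c => rfl, fun c => rfl⟩
  obtain ⟨g, rfl⟩ := ConjClasses.mk_surjective c
  exact ⟨g, rfl, trivial⟩

theorem nc_congr {P Q : ℕ → Prop} (h : ∀ g : G, P (orderOf g) ↔ Q (orderOf g)) : nc G P = nc G Q := by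
  refine Nat.card_congr (Equiv.subtypeEquivRight ?_)
  intro c
  constructor
  · rintro ⟨g, hg, h'⟩; exact ⟨g, hg, (h g).1 h'⟩
  · rintro ⟨g, hg, h'⟩; exact ⟨g, hg, (h g).2 h'⟩

theorem nc_eq_card {P : ℕ → Prop} {ι : Type*} (x : ι → G) (hP : ∀ i, P (orderOf (x i)))
    (hinj : ∀ i j, IsConj (x i) (x j) → i = j)
    (hsurj : ∀ g : G, P (orderOf g) → ∃ i, IsConj g (x i)) : nc G P = Nat.card ι := by
  symm
  refine Nat.card_congr (Equiv.ofBijective (fun i => ⟨ConjClasses.mk (x i), x i, rfl, hP i⟩) ⟨?_, ?_⟩)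
  · intro i j h
    exact hinj i j (ConjClasses.mk_eq_mk_iff_isConj.1 (congrArg Subtype.val h))
  · rintro ⟨_, g, rfl, hg⟩
    obtain ⟨i, hi⟩ := hsurj g hg
    exact ⟨i, Subtype.ext (ConjClasses.mk_eq_mk_iff_isConj.2 hi.symm)⟩

theorem nc_equiv {H : Type*} [Group H] (e : G ≃* H) (P : ℕ → Prop) : nc G P = nc H P := by
  have h := nc_eq_card (G := H) (P := P)
    (x := fun c : {c : ConjClasses G // ∃ g, ConjClasses.mk g = c ∧ P (orderOf g)} =>
      e (Classical.choose c.2)) ?_ ?_ ?_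
  · exact h.symm
  · intro c
    rw [MulEquiv.orderOf_eq]
    exact (Classical.choose_spec c.2).2
  · intro c c' h
    obtain ⟨k, hk⟩ := isConj_iff.1 h
    apply Subtype.ext
    rw [← (Classical.choose_spec c.2).1, ← (Classical.choose_spec c'.2).1,
      ConjClasses.mk_eq_mk_iff_isConj]
    refine isConj_iff.2 ⟨e.symm k, ?_⟩
    apply e.injective
    rw [map_mul, map_mul, map_inv, MulEquiv.apply_symm_apply]
    exact hk
  · intro g hg
    refine ⟨⟨ConjClasses.mk (e.symm g), e.symm g, rfl, by rw [MulEquiv.orderOf_eq]; exact hg⟩, ?_⟩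
    have hc : ∃ g' : G, ConjClasses.mk g' = ConjClasses.mk (e.symm g) ∧ P (orderOf g') :=
      ⟨e.symm g, rfl, by rw [MulEquiv.orderOf_eq]; exact hg⟩
    have h1 := (Classical.choose_spec hc).1
    rw [ConjClasses.mk_eq_mk_iff_isConj] at h1
    obtain ⟨k, hk⟩ := isConj_iff.1 h1.symm
    refine isConj_iff.2 ⟨e k, ?_⟩
    show e k * g * (e k)⁻¹ = e (Classical.choose hc)
    rw [← hk, map_mul, map_mul, map_inv, MulEquiv.apply_symm_apply]

theorem nc_add [Finite G] (P Q : ℕ → Prop) :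
    nc G (fun n => P n ∧ Q n) + nc G (fun n => P n ∧ ¬ Q n) = nc G P := by
  classical
  unfold nc
  rw [← Nat.card_sum]
  refine Nat.card_congr (Equiv.ofBijective (fun s => match s with
    | Sum.inl c => ⟨c.1, c.2.elim fun g hg => ⟨g, hg.1, hg.2.1⟩⟩
    | Sum.inr c => ⟨c.1, c.2.elim fun g hg => ⟨g, hg.1, hg.2.1⟩⟩) ⟨?_, ?_⟩)
  · rintro (⟨c, g, hg, h1, h2⟩ | ⟨c, g, hg, h1, h2⟩) (⟨c', g', hg', h1', h2'⟩ | ⟨c', g', hg', h1', h2'⟩) h
    · have h3 : c = c' := congrArg Subtype.val h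
      subst h3; rfl
    · exfalso
      have h3 : c = c' := congrArg Subtype.val h
      rw [← hg, ← hg', ConjClasses.mk_eq_mk_iff_isConj] at h3
      apply h2'
      rw [← orderOf_eq_of_isConj h3]; exact h2
    · exfalso
      have h3 : c = c' := congrArg Subtype.val h
      rw [← hg, ← hg', ConjClasses.mk_eq_mk_iff_isConj] at h3
      apply h2
      rw [orderOf_eq_of_isConj h3]; exact h2'
    · have h3 : c = c' := congrArg Subtype.val h
      subst h3; rfl
  · rintro ⟨c, g, hg, h1⟩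
    by_cases h2 : Q (orderOf g)
    · exact ⟨Sum.inl ⟨c, g, hg, h1, h2⟩, rfl⟩
    · exact ⟨Sum.inr ⟨c, g, hg, h1, h2⟩, rfl⟩

/-- only the trivial class -/
theorem nc_one {P : ℕ → Prop} (h : ∀ g : G, P (orderOf g) ↔ g = 1) : nc G P = 1 := by
  rw [nc_eq_card (ι := Unit) (fun _ => (1 : G)) (fun _ => (h 1).2 rfl) (fun _ _ _ => rfl)
    (fun g hg => ⟨(), by rw [(h g).1 hg]⟩)]
  exact Nat.card_unique

theorem nc_zero {P : ℕ → Prop} (h : ∀ g : G, ¬ P (orderOf g)) : nc G P = 0 := by
  rw [nc_eq_card (ι := Empty) (fun e => e.elim) (fun e => e.elim) (fun e => e.elim)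
    (fun g hg => absurd hg (h g))]
  exact Nat.card_of_isEmpty

/-! ### The `p`-part decomposition -/

section Part

variable [Finite G] {p : ℕ}

/-- exponents projecting every element to its `p`-part and its `p'`-part -/
theorem exists_exponents (G : Type*) [Group G] [Finite G] {p : ℕ} (hp : p.Prime) :
    ∃ k l : ℕ, (∀ a : G, (∃ e, orderOf a = p ^ e) → a ^ k = a ∧ a ^ l = 1) ∧
      (∀ h : G, ¬ p ∣ orderOf h → h ^ k = 1 ∧ h ^ l = h) ∧
      (∀ g : G, g ^ k * g ^ l = g ∧ (∃ e, orderOf (g ^ k) = p ^ e) ∧ ¬ p ∣ orderOf (g ^ l)) := by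
  obtain ⟨s, q, hq, hn⟩ := Nat.exists_eq_pow_mul_and_not_dvd (Nat.card_pos (α := G)).ne' p hp.ne_one
  have hcop : Nat.Coprime (p ^ s) q := (Nat.Coprime.pow_left s ((Nat.Prime.coprime_iff_not_dvd hp).2 hq))
  obtain ⟨k, hk1, hk2⟩ := Nat.chineseRemainder hcop 1 0
  obtain ⟨l, hl1, hl2⟩ := Nat.chineseRemainder hcop 0 1
  have hpa : ∀ a : G, (∃ e, orderOf a = p ^ e) → orderOf a ∣ p ^ s := by
    rintro a ⟨e, he⟩
    have h1 : orderOf a ∣ Nat.card G := orderOf_dvd_natCard a
    rw [hn] at h1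
    refine Nat.Coprime.dvd_of_dvd_mul_right ?_ h1
    rw [he]
    exact (Nat.Coprime.pow_left e ((Nat.Prime.coprime_iff_not_dvd hp).2 hq))
  have hph : ∀ h : G, ¬ p ∣ orderOf h → orderOf h ∣ q := by
    intro h hh
    have h1 : orderOf h ∣ Nat.card G := orderOf_dvd_natCard h
    rw [hn] at h1
    refine Nat.Coprime.dvd_of_dvd_mul_left ?_ h1
    exact (Nat.Coprime.pow_right s ((Nat.Prime.coprime_iff_not_dvd hp).2 hh).symm)
  refine ⟨k, l, ?_, ?_, ?_⟩
  · intro a ha
    have h := hpa a ha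
    constructor
    · have h1 : k ≡ 1 [MOD orderOf a] := hk1.of_dvd h
      have h2 := (pow_eq_pow_iff_modEq (x := a)).2 h1
      rwa [pow_one] at h2
    · have h1 : l ≡ 0 [MOD orderOf a] := hl1.of_dvd h
      have h2 := (pow_eq_pow_iff_modEq (x := a)).2 h1
      rwa [pow_zero] at h2
  · intro a ha
    have h := hph a ha
    constructor
    · have h1 : k ≡ 0 [MOD orderOf a] := hk2.of_dvd h
      have h2 := (pow_eq_pow_iff_modEq (x := a)).2 h1
      rwa [pow_zero] at h2
    · have h1 : l ≡ 1 [MOD orderOf a] := hl2.of_dvd h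
      have h2 := (pow_eq_pow_iff_modEq (x := a)).2 h1
      rwa [pow_one] at h2
  · intro g
    refine ⟨?_, ?_, ?_⟩
    · rw [← pow_add]
      have h1 : k + l ≡ 1 [MOD p ^ s * q] := by
        refine (Nat.modEq_and_modEq_iff_modEq_mul hcop).1 ⟨?_, ?_⟩
        · exact hk1.add hl1
        · exact hk2.add hl2
      have h2 : orderOf g ∣ p ^ s * q := by rw [← hn]; exact orderOf_dvd_natCard g
      have h3 := (pow_eq_pow_iff_modEq (x := g)).2 (h1.of_dvd h2)
      rwa [pow_one] at h3
    · have h1 : (g ^ k) ^ p ^ s = 1 := by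
        rw [← pow_mul]
        apply orderOf_dvd_iff_pow_eq_one.1
        have h2 : orderOf g ∣ p ^ s * q := by rw [← hn]; exact orderOf_dvd_natCard g
        refine h2.trans ?_
        rw [mul_comm k]
        exact Nat.mul_dvd_mul_left _ ((Nat.modEq_zero_iff_dvd).1 hk2)
      obtain ⟨e, -, he⟩ := (Nat.dvd_prime_pow hp).1 (orderOf_dvd_of_pow_eq_one h1)
      exact ⟨e, he⟩
    · have h1 : (g ^ l) ^ q = 1 := by
        rw [← pow_mul]
        apply orderOf_dvd_iff_pow_eq_one.1
        have h2 : orderOf g ∣ p ^ s * q := by rw [← hn]; exact orderOf_dvd_natCard g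
        refine h2.trans ?_
        exact Nat.mul_dvd_mul_right ((Nat.modEq_zero_iff_dvd).1 hl1) _
      exact fun h => hq (h.trans (orderOf_dvd_of_pow_eq_one h1))

theorem mem_cent {a h : G} : h ∈ Subgroup.centralizer ({a} : Set G) ↔ h * a = a * h :=
  Subgroup.mem_centralizer_singleton_iff

/-- **`p`-part decomposition** of the number of conjugacy classes. -/
theorem nc_part [Fact p.Prime] (P : ℕ → Prop) {m : ℕ} (a : Fin m → G)
    (ha : ∀ i, ∃ e, orderOf (a i) = p ^ (e + 1)) (hinj : ∀ i j, IsConj (a i) (a j) → i = j)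
    (hsurj : ∀ g : G, (∃ e, orderOf g = p ^ (e + 1)) → ∃ i, IsConj g (a i)) :
    nc G (fun n => p ∣ n ∧ P n) = ∑ i, nc (Subgroup.centralizer ({a i} : Set G))
      (fun n => ¬ p ∣ n ∧ P (orderOf (a i) * n)) := by
  classical
  have hp : p.Prime := Fact.out
  obtain ⟨k, l, hk, hl, hg⟩ := exists_exponents G hp
  unfold nc
  rw [← Nat.card_sigma]
  have hcomm : ∀ (i : Fin m) (h : Subgroup.centralizer ({a i} : Set G)), Commute (a i) (h : G) :=
    fun i h => (mem_cent.1 h.2).symm
  have hord : ∀ (i : Fin m) (h : Subgroup.centralizer ({a i} : Set G)), ¬ p ∣ orderOf h →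
      orderOf (a i * (h : G)) = orderOf (a i) * orderOf h := by
    intro i h hh
    obtain ⟨e, he⟩ := ha i
    rw [(hcomm i h).orderOf_mul_eq_mul_orderOf_of_coprime, Subgroup.orderOf_coe]
    rw [he, Subgroup.orderOf_coe]
    exact Nat.Coprime.pow_left _ ((Nat.Prime.coprime_iff_not_dvd hp).2 hh)
  have hpart : ∀ (i : Fin m) (h : Subgroup.centralizer ({a i} : Set G)), ¬ p ∣ orderOf h →
      (a i * (h : G)) ^ k = a i ∧ (a i * (h : G)) ^ l = h := by
    intro i h hh
    obtain ⟨e, he⟩ := ha i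
    obtain ⟨h1, h2⟩ := hk (a i) ⟨e + 1, he⟩
    obtain ⟨h3, h4⟩ := hl (h : G) (by rwa [Subgroup.orderOf_coe])
    rw [(hcomm i h).mul_pow, (hcomm i h).mul_pow, h1, h2, h3, h4, mul_one, one_mul]
    exact ⟨rfl, rfl⟩
  refine nc_eq_card (G := G) (P := fun n => p ∣ n ∧ P n)
    (x := fun s : (i : Fin m) × {c : ConjClasses (Subgroup.centralizer ({a i} : Set G)) //
      ∃ g, ConjClasses.mk g = c ∧ ¬ p ∣ orderOf g ∧ P (orderOf (a i) * orderOf g)} =>
        a s.1 * (Classical.choose s.2.2 : Subgroup.centralizer ({a s.1} : Set G))) ?_ ?_ ?_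
  · rintro ⟨i, c, hc⟩
    obtain ⟨h1, h2, h3⟩ := Classical.choose_spec hc
    show p ∣ orderOf (a i * (Classical.choose hc : Subgroup.centralizer ({a i} : Set G))) ∧
      P (orderOf (a i * (Classical.choose hc : Subgroup.centralizer ({a i} : Set G))))
    rw [hord i _ h2]
    obtain ⟨e, he⟩ := ha i
    exact ⟨Dvd.dvd.mul_right (by rw [he, pow_succ]; exact Dvd.intro_left _ rfl) _, h3⟩
  · rintro ⟨i, c, hc⟩ ⟨j, d, hd⟩ hconj
    obtain ⟨h1, h2, h3⟩ := Classical.choose_spec hc
    obtain ⟨h1', h2', h3'⟩ := Classical.choose_spec hd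
    obtain ⟨t, ht⟩ := isConj_iff.1 hconj
    change t * (a i * (Classical.choose hc : Subgroup.centralizer ({a i} : Set G))) * t⁻¹ =
      a j * (Classical.choose hd : Subgroup.centralizer ({a j} : Set G)) at ht
    obtain ⟨e1, e2⟩ := hpart i _ h2
    obtain ⟨e1', e2'⟩ := hpart j _ h2'
    generalize Classical.choose hc = u at *
    generalize Classical.choose hd = v at *
    have f1 : t * a i * t⁻¹ = a j := by
      rw [← e1, ← e1', ← ht, conj_pow]
    have hij : i = j := hinj i j (isConj_iff.2 ⟨t, f1⟩)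
    subst hij
    have f2 : t * (u : G) * t⁻¹ = v := by
      rw [← e2, ← e2', ← ht, conj_pow]
    have ht' : t ∈ Subgroup.centralizer ({a i} : Set G) := by
      rw [mem_cent]
      calc t * a i = t * a i * t⁻¹ * t := by group
        _ = a i * t := by rw [f1]
    have h4 : c = d := by
      rw [← h1, ← h1', ConjClasses.mk_eq_mk_iff_isConj]
      exact isConj_iff.2 ⟨⟨t, ht'⟩, Subtype.ext f2⟩
    subst h4
    rfl
  · rintro g ⟨hpg, hPg⟩
    obtain ⟨g1, ⟨e, he⟩, g3⟩ := hg g
    have he0 : e ≠ 0 := by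
      rintro rfl
      rw [pow_zero, orderOf_eq_one_iff] at he
      rw [he, one_mul] at g1
      rw [g1] at g3
      exact g3 hpg
    obtain ⟨e', rfl⟩ := Nat.exists_eq_succ_of_ne_zero he0
    obtain ⟨i, hi⟩ := hsurj (g ^ k) ⟨e', he⟩
    obtain ⟨t, ht⟩ := isConj_iff.1 hi
    have hu : t * g ^ l * t⁻¹ ∈ Subgroup.centralizer ({a i} : Set G) := by
      rw [mem_cent, ← ht]
      have : t * g ^ l * t⁻¹ * (t * g ^ k * t⁻¹) = t * (g ^ l * g ^ k) * t⁻¹ := by group
      rw [this, ← pow_add, add_comm, pow_add]; group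
    have hup : ¬ p ∣ orderOf (⟨_, hu⟩ : Subgroup.centralizer ({a i} : Set G)) := by
      rw [← Subgroup.orderOf_coe]
      show ¬ p ∣ orderOf (t * g ^ l * t⁻¹)
      rw [orderOf_conj]; exact g3
    have hgu : t * g * t⁻¹ = a i * (⟨_, hu⟩ : Subgroup.centralizer ({a i} : Set G)) := by
      show t * g * t⁻¹ = a i * (t * g ^ l * t⁻¹)
      rw [← ht]
      conv_lhs => rw [← g1]
      group
    have hc : ∃ g' : Subgroup.centralizer ({a i} : Set G), ConjClasses.mk g' =
        ConjClasses.mk (⟨_, hu⟩ : Subgroup.centralizer ({a i} : Set G)) ∧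
        ¬ p ∣ orderOf g' ∧ P (orderOf (a i) * orderOf g') := by
      refine ⟨⟨_, hu⟩, rfl, hup, ?_⟩
      rw [← hord i _ hup, ← hgu, orderOf_conj]
      exact hPg
    refine ⟨⟨i, _, hc⟩, ?_⟩
    show IsConj g (a i * (Classical.choose hc : Subgroup.centralizer ({a i} : Set G)))
    have h5 := (Classical.choose_spec hc).1
    rw [ConjClasses.mk_eq_mk_iff_isConj] at h5
    obtain ⟨s, hs⟩ := isConj_iff.1 h5.symm
    refine isConj_iff.2 ⟨s * t, ?_⟩
    have h6 : (s : G) * a i * (s : G)⁻¹ = a i := by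
      have := mem_cent.1 s.2
      rw [this]; group
    calc (s : G) * t * g * ((s : G) * t)⁻¹ = (s : G) * (t * g * t⁻¹) * (s : G)⁻¹ := by group
      _ = (s : G) * (a i * (⟨_, hu⟩ : Subgroup.centralizer ({a i} : Set G))) * (s : G)⁻¹ := by rw [hgu]
      _ = ((s : G) * a i * (s : G)⁻¹) *
          ((s : G) * (⟨_, hu⟩ : Subgroup.centralizer ({a i} : Set G)) * (s : G)⁻¹) := by group
      _ = a i * (Classical.choose hc : Subgroup.centralizer ({a i} : Set G)) := by
          rw [h6, ← hs]; rfl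

end Part

end Cfsg.Agent.H860.Count
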