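import Cfsg.Agent.H858.VK

/-!
# A proper subgroup of `J4` with elements of orders 5, 11 and 31 (helper860)

The elements `e = (x y t y) ^ 7` of order 5 and `s = x ^ u` preserve a subspace of dimension 20 of the module of
dimension 112 over the field of two elements (words of helper935).  The subspace is given by an idempotent `E`.
-/

set_option autoImplicit false

open Cfsg

namespace Cfsg.Agent.H860.L32Data

open Cfsg.Agent.Lib Cfsg.Agent.Lib.F2MatGroup
open Cfsg.Agent.J4.Rep112
open Cfsg.Agent.H858.VK

/-- the program: `a = x y t y`, `e = a ^ 7`, `u`, `u⁻¹`, `s = u⁻¹ x u`, `w31`, `w11` -/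
def slp : List (List ℕ) := [[0, 1, 3, 1], [0, 0, 0, 0, 0, 0, 0], [2, 3, 2, 5, 3, 5, 3, 5, 4, 2, 2, 4, 5, 3, 2, 4, 2, 5, 4, 5, 3], [5, 6, 4, 6, 3, 4, 3, 5, 6, 4, 3, 3, 4, 6, 5, 6, 5, 6, 3, 5, 3], [0, 4, 1], [3, 3, 0, 3, 3, 3, 0], [4, 1, 4, 1, 4, 1, 4, 4, 1]]

/-- the equations -/
def es : List (List ℕ × List ℕ) :=
  [(List.replicate 11 0, []), (List.replicate 31 1, []), (List.replicate 5 5, [])]

/-- the inequations -/
def ns : List (List ℕ × List ℕ) := [([0], []), ([1], []), ([5], [])]

/-- the idempotent matrix -/
def E : ℕ :=
  0x80000b056f839d17a23d25f94f54400000897e4ee11fea27fdfcdbf62001095d0e50ef318f9ff2c4fc0110000a7ccf998d691655e86a97f308010bcfc9a63f12fad262816d1904000afafeaf3999c21cbb464fad020100f6aa7700ca424c0f0f394e010100f780bc59bd936e9452f716008000773b28fd0854976afcc14e004000497495618645ba3401f0ce002108fcb3a138d7df7950c871e3001103342d87d21fa83879c3ba41000909d0f522b5c5e29445fbe1ec00050b5375610a197d72eec99509000209e485357e961892f9fa66080000000000000000000000000000000089d6902ebfe481fe190a1882000042d0916b2c8a067d503557fe00002aa4738755d08f99594d70f700001aa225831f713cf8743f92c300000000000000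00000000000000000005067b105ccf1a471e9d1b3a000000000000000000000000000000000000000000000000000000000000000000000000000000000000000000000000000000000000000000000000000000000000000000000000000000000000000000000000000000000000000000000000000000000000000000000000000000000000000000000000000000000000000000000000000000000000000000000000000000000000000000000000000000000000000000000000000000000000000000000000000000000000000000000000000000000000000000000000000000000000000000000000000000000000000000000000000000000000000000000000000000000000000000000000000000000000000000000000000000000000000000000000000000000000000000000000000000000000000000000000000000000000000000000000000000000000000000000000000000000000000000000000000000000000000000000000000000000000000000000000000000000000000000000000000000000000000000000000000000000000000000000000000000000000000000000000000000000000000000000000000000000000000000000000000000000000000000000000000000000000000000000000000000000000000000000000000000000000000000000000000000000000000000000000000000000000000000000000000000000000000000000000000000000000000000000000000000000000000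000000000000000000000000000000000000000000000000000000000000000000000000000000000000000000000000000000000000000000000000000000000000000000000000000000000000000000000000000000000000000000000000000000000000000000000000000000000000000000000000000000000000000000000000000000000000000000000000000000000000000000000000000000000000000000000000000000000000000000000000000000000000000000000000000000000000000000000000000000000000000000000000000000000000000000000000000000000000000000000000000000000000000000000000000000000000000000000000000000000000000000000000000000000000000000000000000000000000000000000000000000000000000000000000000000000000000000000000000000000000000000000000000000000000000000000000000000000000000000000000000000000000000000000000000000000000000000000000000000000000000000000000000000000000000000000000000000000000000000000000000000000000000000000000000000000000000000000000000000000000000000000000000000000000000000000000000000000000000000000000000000000000000000000000000000000000000000000000000000000000000000000000000000000000000000000000000000000000000000000000000000000000000000000000000000000000000000000000000000000000000000000000000000000000000000000000000000000000000000000000000000000000000000000000000000000000000000000000000000000000000000000000000000000000000000000000000000000000000000000000000000000000000000000000000000000000000000000000000000000000000000000000000000000000000000000000000000000000000000000000000000000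

/-- `E A = E A E` -/
def keep (A : ℕ) : Bool := Nat.beq (F2Mat.mul 112 E A) (F2Mat.mul 112 (F2Mat.mul 112 E A) E)

/-- the check of the subspace -/
def vchk (L : List ℕ) : Bool :=
  keep (get (F2Mat.one 112) L 5) && keep (get (F2Mat.one 112) L 2) && !(keep (get (F2Mat.one 112) L 7)) &&
    keep (F2Mat.one 112)

theorem check : run 112 slp codes
    (fun L => cond (eqs 112 es L) (cond (neqs 112 ns L) (vchk L) false) false) = true := by decide +kernel

/-- the environment: `w11, w31, s, u⁻¹, u, e, a, x, y, y⁻¹, t` -/
noncomputable def LX : List Cfsg.Spor.J4 := runG slp gens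

/-- the elements -/
noncomputable def w11 : Cfsg.Spor.J4 := getG LX 0
noncomputable def w31 : Cfsg.Spor.J4 := getG LX 1
noncomputable def s : Cfsg.Spor.J4 := getG LX 2
noncomputable def e : Cfsg.Spor.J4 := getG LX 5

/-- `b` preserves the subspace -/
def Keeps (b : Cfsg.Spor.J4) : Prop :=
  F2Mat.toMat 112 E * ((rho b : GL (Fin 112) (ZMod 2)) : Matrix (Fin 112) (Fin 112) (ZMod 2)) =
    F2Mat.toMat 112 E * ((rho b : GL (Fin 112) (ZMod 2)) : Matrix (Fin 112) (Fin 112) (ZMod 2)) *
      F2Mat.toMat 112 E

theorem map_LX : LX.map rho = runG slp (gens.map rho) := by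
  unfold LX
  rw [runG_map]

theorem keep_iff {b : Cfsg.Spor.J4} {A : ℕ} (h : Codes 112 (rho b) A) : keep A = true ↔ Keeps b := by
  unfold Codes at h
  unfold keep Keeps
  rw [h, ← F2Mat.toMat_mul, ← F2Mat.toMat_mul]
  constructor
  · intro h1
    exact congrArg (F2Mat.toMat 112) (Nat.eq_of_beq_eq_true h1)
  · intro h1
    have h2 := F2Mat.toMat_inj (F2Mat.mul_lt (by norm_num) _ _) (F2Mat.mul_lt (by norm_num) _ _) h1
    rw [← h2]
    exact Nat.beq_refl _

theorem sound : (∀ p ∈ es, evG LX p.1 = evG LX p.2) ∧ (∀ p ∈ ns, evG LX p.1 ≠ evG LX p.2) ∧
    Keeps e ∧ Keeps s ∧ ¬ Keeps (getG LX 7) ∧ Keeps 1 := by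
  obtain ⟨L', h', hk⟩ := run_sound codes_gens check
  have h'' : List.Forall₂ (Codes 112) (LX.map rho) L' := by rw [map_LX]; exact h'
  rcases hb : eqs 112 es L' with _ | _
  · rw [hb] at hk; exact absurd hk Bool.false_ne_true
  rw [hb] at hk
  rcases hc : neqs 112 ns L' with _ | _
  · rw [hc] at hk; exact absurd hk Bool.false_ne_true
  rw [hc] at hk
  have hk' : vchk L' = true := hk
  refine ⟨fun p hp => ?_, fun p hp => ?_, ?_⟩
  · apply rho_injective
    rw [← evG_map, ← evG_map]
    exact eqs_sound h'' hb p hp
  · intro h0
    have h1 := congrArg rho h0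
    rw [← evG_map, ← evG_map] at h1
    exact neqs_sound (by norm_num) h'' hc p hp h1
  · have key : ∀ i, Codes 112 (rho (getG LX i)) (get (F2Mat.one 112) L' i) := by
      intro i
      have h3 := codes_get h'' i
      rwa [getG_map] at h3
    unfold vchk at hk'
    simp only [Bool.and_eq_true, Bool.not_eq_true'] at hk'
    obtain ⟨⟨⟨h1, h2⟩, h3⟩, h5⟩ := hk'
    refine ⟨(keep_iff (key 5)).1 h1, (keep_iff (key 2)).1 h2, fun h4 => ?_, ?_⟩
    · rw [(keep_iff (key 7)).2 h4] at h3
      exact absurd h3 (by decide)
    · refine (keep_iff (b := 1) ?_).1 h5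
      rw [map_one]
      exact Codes.one 112

theorem evG_rep {G : Type*} [Group G] (L : List G) (n i : ℕ) : evG L (List.replicate n i) = (getG L i) ^ n := by
  induction n with
  | zero => rw [List.replicate_zero, evG_nil, pow_zero]
  | succ n ih => rw [List.replicate_succ, evG_cons, ih, pow_succ']

theorem order_w11 : orderOf w11 = 11 := by
  have : Fact (Nat.Prime 11) := ⟨by norm_num⟩
  refine orderOf_eq_prime ?_ fun h => ?_
  · have := sound.1 (List.replicate 11 0, []) (by simp [es])
    rwa [evG_rep, evG_nil] at this
  · refine sound.2.1 ([0], []) (by simp [ns]) ?_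
    rw [evG_cons, evG_nil, mul_one]
    exact h

theorem order_w31 : orderOf w31 = 31 := by
  have : Fact (Nat.Prime 31) := ⟨by norm_num⟩
  refine orderOf_eq_prime ?_ fun h => ?_
  · have := sound.1 (List.replicate 31 1, []) (by simp [es])
    rwa [evG_rep, evG_nil] at this
  · refine sound.2.1 ([1], []) (by simp [ns]) ?_
    rw [evG_cons, evG_nil, mul_one]
    exact h

theorem order_e : orderOf e = 5 := by
  have : Fact (Nat.Prime 5) := ⟨by norm_num⟩
  refine orderOf_eq_prime ?_ fun h => ?_
  · have := sound.1 (List.replicate 5 5, []) (by simp [es])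
    rwa [evG_rep, evG_nil] at this
  · refine sound.2.1 ([5], []) (by simp [ns]) ?_
    rw [evG_cons, evG_nil, mul_one]
    exact h

theorem Keeps.mul {a b : Cfsg.Spor.J4} (ha : Keeps a) (hb : Keeps b) : Keeps (a * b) := by
  unfold Keeps at *
  rw [map_mul, Units.val_mul]
  generalize ((rho a : GL (Fin 112) (ZMod 2)) : Matrix (Fin 112) (Fin 112) (ZMod 2)) = A at *
  generalize ((rho b : GL (Fin 112) (ZMod 2)) : Matrix (Fin 112) (Fin 112) (ZMod 2)) = B at *
  generalize F2Mat.toMat 112 E = D at *
  calc D * (A * B) = (D * A) * B := by rw [mul_assoc]
    _ = (D * A * D) * B := by rw [← ha]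
    _ = (D * A) * (D * B) := by simp only [mul_assoc]
    _ = (D * A) * (D * B * D) := by rw [← hb]
    _ = (D * A * D) * B * D := by simp only [mul_assoc]
    _ = (D * A) * B * D := by rw [← ha]
    _ = D * (A * B) * D := by simp only [mul_assoc]

theorem Keeps.pow {a : Cfsg.Spor.J4} (ha : Keeps a) (n : ℕ) : Keeps (a ^ n) := by
  induction n with
  | zero => rw [pow_zero]; exact sound.2.2.2.2.2
  | succ n ih => rw [pow_succ]; exact ih.mul ha

/-- the subgroup generated by `e` and `s` -/
noncomputable def S : Subgroup Cfsg.Spor.J4 := Subgroup.closure {e, s}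

theorem e_mem : e ∈ S := Subgroup.subset_closure (by simp)
theorem s_mem : s ∈ S := Subgroup.subset_closure (by simp)

theorem keeps_of_mem {a : Cfsg.Spor.J4} (ha : a ∈ S) : Keeps a := by
  have hf : Finite Cfsg.Spor.J4 := inferInstance
  induction ha using Subgroup.closure_induction with
  | mem x hx =>
    rcases hx with rfl | hx
    · exact sound.2.2.1
    · rw [Set.mem_singleton_iff] at hx
      rw [hx]
      exact sound.2.2.2.1
  | one => exact sound.2.2.2.2.2
  | mul x y _ _ hx hy => exact hx.mul hy
  | inv x _ hx =>
    have h1 : x⁻¹ = x ^ (orderOf x - 1) := by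
      rw [inv_eq_iff_mul_eq_one, ← pow_succ', Nat.sub_add_cancel (orderOf_pos x), pow_orderOf_eq_one]
    rw [h1]
    exact hx.pow _

theorem S_ne : S ≠ ⊤ := fun h0 =>
  sound.2.2.2.2.1 (keeps_of_mem (h0 ▸ Subgroup.mem_top (getG LX 7)))

theorem w31_mem : w31 ∈ S := by
  have h : w31 = e * (e * (s * (e * (e * (e * (s * 1)))))) := rfl
  rw [h]
  have h1 := e_mem
  have h2 := s_mem
  exact S.mul_mem h1 (S.mul_mem h1 (S.mul_mem h2 (S.mul_mem h1 (S.mul_mem h1 (S.mul_mem h1 (S.mul_mem h2 S.one_mem))))))

theorem w11_mem : w11 ∈ S := by
  have h : w11 = e * (s * (e * (s * (e * (s * (e * (e * (s * 1)))))))) := rfl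
  rw [h]
  have h1 := e_mem
  have h2 := s_mem
  exact S.mul_mem h1 (S.mul_mem h2 (S.mul_mem h1 (S.mul_mem h2 (S.mul_mem h1 (S.mul_mem h2 (S.mul_mem h1
    (S.mul_mem h1 (S.mul_mem h2 S.one_mem))))))))

end Cfsg.Agent.H860.L32Data
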