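import Cfsg.Agent.H860.PartFiveSeven
import Cfsg.Agent.H859.BigNum

/-!
# Classes of J4: elements of order 23, 29, 31, 37, 43, and the count of the classes prime to 3, 5, 7, 11
-/

set_option autoImplicit false

namespace Cfsg.Agent.H860.PartBig

open Cfsg Cfsg.Agent.H860.Count Cfsg.Agent.H860.CountDirect Cfsg.Agent.H860.CountPrime
open Cfsg.Agent.H858 Cfsg.Agent.H860.PartFiveSeven

section

variable {G : Type*} [Group G] [Finite G] {p : ℕ} [Fact p.Prime]

/-- the elements of order divisible by `p` have order `p` if the subgroups of order `p` are self-centralizing -/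
theorem dvd_iff (h3 : ∀ P : Subgroup G, Nat.card P = p →
    Nat.card (Subgroup.centralizer (P : Set G)) = p) (g : G) : p ∣ orderOf g ↔ orderOf g = p := by
  have hp : p.Prime := Fact.out
  refine ⟨fun h => ?_, fun h => by rw [h]⟩
  obtain ⟨k, hk⟩ := h
  have hk0 : k ≠ 0 := by
    rintro rfl
    have := orderOf_pos g
    omega
  have ha : orderOf (g ^ k) = p := by
    rw [orderOf_pow' g hk0, hk, Nat.gcd_mul_left_left, Nat.mul_div_cancel _ (Nat.pos_of_ne_zero hk0)]
  have hc := h3 (Subgroup.zpowers (g ^ k)) (by rw [Nat.card_zpowers, ha])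
  have hg : g ∈ Subgroup.centralizer ((Subgroup.zpowers (g ^ k) : Subgroup G) : Set G) := by
    rw [NormC.centralizer_zpowers, Subgroup.mem_centralizer_singleton_iff]
    exact ((Commute.refl g).pow_right k).eq
  have h4 : orderOf g ∣ p := by
    rw [← hc]; exact NormC.orderOf_dvd_of_mem hg
  rcases (Nat.dvd_prime hp).1 h4 with h5 | h5
  · rw [h5] at hk
    exfalso
    have : p ∣ 1 := Dvd.intro _ hk.symm
    exact hp.one_lt.ne' (Nat.dvd_one.1 this)
  · exact h5

theorem nc_self {m n : ℕ} (h1 : p ∣ Nat.card G) (h2 : ¬ p * p ∣ Nat.card G)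
    (h3 : ∀ P : Subgroup G, Nat.card P = p → Nat.card (Subgroup.centralizer (P : Set G)) = p ∧
      Nat.card (Subgroup.normalizer (P : Set G)) = n) (hn : 0 < n) (hm : m * n = (p - 1) * p) :
    nc G (fun k => p ∣ k) = m := by
  obtain ⟨a, ha⟩ := exists_prime_orderOf_dvd_card' p h1
  have hP : Nat.card (Subgroup.zpowers a) = p := by rw [Nat.card_zpowers, ha]
  have h4 := nc_prime_of hP h2
  rw [(h3 _ hP).1, (h3 _ hP).2, ← hm] at h4
  rw [nc_congr (Q := fun k => k = p) (dvd_iff fun P hP => (h3 P hP).1)]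
  exact Nat.eq_of_mul_eq_mul_right hn h4

/-- splitting off a prime whose elements have order `p` -/
theorem split_off {A : ℕ → Prop} {m k : ℕ}
    (h3 : ∀ P : Subgroup G, Nat.card P = p → Nat.card (Subgroup.centralizer (P : Set G)) = p)
    (hA : A p) (h : nc G (fun k => p ∣ k) = m) (hk : nc G (fun n => A n ∧ ¬ p ∣ n) = k) :
    nc G A = m + k := by
  rw [← nc_add A (fun n => p ∣ n), hk, ← h]
  congr 1
  apply nc_congr
  intro g
  refine ⟨fun h => h.2, fun h => ⟨?_, h⟩⟩
  rw [(dvd_iff h3 g).1 h]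
  exact hA

end

end Cfsg.Agent.H860.PartBig
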